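import Groth.Agent.MultBound.OneDim
import Groth.Agent.Wt.CMBase
import Mathlib.RingTheory.RamificationInertia.Basic
import Mathlib.FieldTheory.PurelyInseparable.Tower
import Mathlib.FieldTheory.Normal.Basic
import Mathlib.FieldTheory.IsAlgClosed.Basic

/-!
# Multiplicities of the points of a finite field extension tensored with an algebraic closure
-/

set_option autoImplicit false
set_option linter.style.haveILetI false

universe u

open TensorProduct

namespace Groth.Agent.InsepLen

variable {k Ω : Type u} [Field k] [Field Ω] [Algebra k Ω]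

/-- The length of a local ring of `Ω ⊗[k] K` is the inseparable degree of `K/k`. -/
theorem length_localization_tensor [IsAlgClosed Ω] [Algebra.IsAlgebraic k Ω] {K : Type u} [Field K]
    [Algebra k K] [Module.Finite k K] (Q : Ideal (Ω ⊗[k] K)) [Q.IsPrime] :
    (Module.length (Localization.AtPrime Q) (Localization.AtPrime Q)).toNat =
      Field.finInsepDegree k K := by
  classical
  haveI : IsArtinianRing (Ω ⊗[k] K) := isArtinian_of_tower Ω inferInstance
  haveI : IsAlgClosure k Ω := ⟨inferInstance, inferInstance⟩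
  haveI : Normal k Ω := IsAlgClosure.normal k Ω
  let lift' : (K →ₐ[k] Ω) → (Ω ⊗[k] K) →ₐ[Ω] Ω := fun σ =>
    Algebra.TensorProduct.lift (Algebra.ofId Ω Ω) σ fun _ _ => Commute.all _ _
  have hlift : ∀ σ (w : Ω) (x : K), lift' σ (w ⊗ₜ[k] x) = w * σ x := fun σ w x =>
    Algebra.TensorProduct.lift_tmul _ _ _ w x
  let pt : (K →ₐ[k] Ω) → PrimeSpectrum (Ω ⊗[k] K) := fun σ => ⟨RingHom.ker (lift' σ), RingHom.ker_isPrime _⟩
  have hpt : Function.Bijective pt := by
    constructor
    · intro σ τ h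
      ext x
      have h1 : σ x ⊗ₜ[k] (1 : K) - (1 : Ω) ⊗ₜ[k] x ∈ (pt σ).asIdeal := by
        show lift' σ _ = 0
        rw [map_sub, hlift, hlift, map_one, mul_one, one_mul, sub_self]
      rw [h] at h1
      have h2 : lift' τ _ = 0 := h1
      rw [map_sub, hlift, hlift, map_one, mul_one, one_mul, sub_eq_zero] at h2
      exact h2
    · intro P
      haveI : P.asIdeal.IsMaximal := IsArtinianRing.isMaximal_of_isPrime _
      letI : Field ((Ω ⊗[k] K) ⧸ P.asIdeal) := Ideal.Quotient.field P.asIdeal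
      have hbij : Function.Bijective (algebraMap Ω ((Ω ⊗[k] K) ⧸ P.asIdeal)) :=
        IsAlgClosed.algebraMap_bijective_of_isIntegral
      let χ : (Ω ⊗[k] K) →ₐ[Ω] Ω :=
        ((AlgEquiv.ofBijective (Algebra.ofId Ω ((Ω ⊗[k] K) ⧸ P.asIdeal)) hbij).symm.toAlgHom).comp
          (Ideal.Quotient.mkₐ Ω P.asIdeal)
      have hχ : lift' ((χ.restrictScalars k).comp Algebra.TensorProduct.includeRight) = χ :=
        Algebra.TensorProduct.ext (Subsingleton.elim _ _) (AlgHom.ext fun x => by simp [lift'])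
      refine ⟨(χ.restrictScalars k).comp Algebra.TensorProduct.includeRight, PrimeSpectrum.ext ?_⟩
      show RingHom.ker (lift' _) = _
      rw [hχ]
      ext b
      simp [χ, Ideal.Quotient.eq_zero_iff_mem]
  haveI : Fintype (PrimeSpectrum (Ω ⊗[k] K)) := Fintype.ofFinite _
  let len : PrimeSpectrum (Ω ⊗[k] K) → ℕ := fun P =>
    (Module.length (Localization.AtPrime P.asIdeal) (Localization.AtPrime P.asIdeal)).toNat
  -- transitivity of the Galois action
  have heq : ∀ σ τ, len (pt σ) = len (pt τ) := by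
    intro σ τ
    let φ : σ.fieldRange →ₐ[k] Ω :=
      τ.comp (AlgEquiv.ofInjectiveField σ).symm.toAlgHom
    let g : Ω ≃ₐ[k] Ω := AlgEquiv.ofBijective (φ.liftNormal Ω) (AlgHom.normal_bijective k Ω Ω _)
    have hg : ∀ x, g (σ x) = τ x := fun x => by
      have h1 := φ.liftNormal_commutes Ω (AlgEquiv.ofInjectiveField σ x)
      show φ.liftNormal Ω (σ x) = τ x
      refine (show φ.liftNormal Ω (σ x) = φ (AlgEquiv.ofInjectiveField σ x) from h1).trans ?_
      show τ ((AlgEquiv.ofInjectiveField σ).symm (AlgEquiv.ofInjectiveField σ x)) = τ x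
      rw [AlgEquiv.symm_apply_apply]
    let e : (Ω ⊗[k] K) ≃ₐ[k] (Ω ⊗[k] K) := Algebra.TensorProduct.congr g AlgEquiv.refl
    have hcomp : ∀ b, lift' τ (e b) = g (lift' σ b) := by
      intro b
      induction b with
      | zero => simp
      | add x y hx hy => simp [map_add, hx, hy]
      | tmul w x => simp [e, hlift, hg, map_mul]
    have hc : (pt τ).asIdeal.comap e.toRingEquiv.toRingHom = (pt σ).asIdeal := by
      ext b
      show lift' τ (e b) = 0 ↔ lift' σ b = 0
      rw [hcomp, EmbeddingLike.map_eq_zero_iff]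
    haveI := (pt τ).isPrime
    obtain ⟨r⟩ := Wt.CMBase.nonempty_localization_equiv e.toRingEquiv (pt τ).asIdeal
    have hlen : ∀ {C D : Type u} [CommRing C] [CommRing D] (r : C ≃+* D),
        Module.length C C = Module.length D D := fun {C D} _ _ r => by
      rw [MultBound.length_self_eq_quot_ker r.toRingHom r.surjective]
      have : RingHom.ker r.toRingHom = ⊥ := (RingHom.injective_iff_ker_eq_bot r.toRingHom).mp r.injective
      rw [this]
      exact (Submodule.quotEquivOfEqBot (⊥ : Ideal C) rfl).length_eq.symm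
    have key : ∀ (P : Ideal (Ω ⊗[k] K)) [P.IsPrime],
        P = (pt τ).asIdeal.comap e.toRingEquiv.toRingHom →
        (Module.length (Localization.AtPrime P) (Localization.AtPrime P)).toNat = len (pt τ) := by
      intro P _ h
      subst h
      exact congrArg ENat.toNat (hlen r)
    exact @key _ (pt σ).isPrime hc.symm
  -- counting
  have hsum : ∑ P : PrimeSpectrum (Ω ⊗[k] K), len P = Module.finrank k K := by
    haveI : (⊥ : Ideal Ω).IsPrime := Ideal.isPrime_bot
    let eP : (⊥ : Ideal Ω).primesOver (Ω ⊗[k] K) ≃ PrimeSpectrum (Ω ⊗[k] K) :=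
      { toFun := fun q => ⟨q.1, q.2.1⟩
        invFun := fun P => ⟨P.asIdeal, P.isPrime,
          ⟨(((Ideal.eq_bot_or_top (P.asIdeal.under Ω)).resolve_right
            (Ideal.IsPrime.ne_top inferInstance)).symm)⟩⟩
        left_inv := fun _ => rfl
        right_inv := fun _ => rfl }
    haveI : Fintype ((⊥ : Ideal Ω).primesOver (Ω ⊗[k] K)) := Fintype.ofEquiv _ eP.symm
    have hfr : Module.finrank Ω (Ω ⊗[k] K) = Module.finrank k K := Module.finrank_baseChange
    rw [← hfr, ← Ideal.sum_ramification_inertia_eq_finrank (⊥ : Ideal Ω) (Ω ⊗[k] K)]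
    refine (Fintype.sum_equiv eP _ _ fun q => ?_).symm
    haveI : q.1.IsPrime := q.2.1
    haveI : q.1.LiesOver (⊥ : Ideal Ω) := q.2.2
    haveI : q.1.IsMaximal := IsArtinianRing.isMaximal_of_isPrime _
    haveI : (⊥ : Ideal Ω).IsMaximal := Ideal.bot_isMaximal
    have h1 : q.1.inertiaDeg Ω = 1 := by
      rw [Ideal.inertiaDeg_eq_of_isMaximal (⊥ : Ideal Ω) q.1]
      letI : Field ((Ω ⊗[k] K) ⧸ q.1) := Ideal.Quotient.field q.1
      letI : Field (Ω ⧸ (⊥ : Ideal Ω)) := Ideal.Quotient.field _
      haveI : IsAlgClosed (Ω ⧸ (⊥ : Ideal Ω)) :=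
        IsAlgClosed.of_ringEquiv Ω _ (RingEquiv.quotientBot Ω).symm
      haveI : Algebra.IsIntegral (Ω ⧸ (⊥ : Ideal Ω)) ((Ω ⊗[k] K) ⧸ q.1) := Algebra.IsIntegral.tower_top (R := Ω)
      have hbij : Function.Bijective (algebraMap (Ω ⧸ (⊥ : Ideal Ω)) ((Ω ⊗[k] K) ⧸ q.1)) :=
        IsAlgClosed.algebraMap_bijective_of_isIntegral
      exact (LinearEquiv.ofBijective (Algebra.linearMap _ _) hbij).finrank_eq.symm.trans
        (Module.finrank_self _)
    rw [h1, mul_one, Ideal.ramificationIdx_eq (⊥ : Ideal Ω) q.1, Ideal.map_bot]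
    exact congrArg ENat.toNat (Submodule.quotEquivOfEqBot _ rfl).length_eq
  obtain ⟨σ₀, hσ₀⟩ := hpt.2 ⟨Q, inferInstance⟩
  have hall : ∀ P, len P = len ⟨Q, inferInstance⟩ := fun P => by
    obtain ⟨σ, rfl⟩ := hpt.2 P
    rw [← hσ₀]
    exact heq σ σ₀
  rw [Finset.sum_congr rfl (fun P _ => hall P), Finset.sum_const, Finset.card_univ, smul_eq_mul,
    ← Field.finSepDegree_mul_finInsepDegree k K, Field.finSepDegree_eq_of_isAlgClosed k K Ω,
    Nat.card_congr (Equiv.ofBijective pt hpt), Nat.card_eq_fintype_card] at hsum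
  exact Nat.eq_of_mul_eq_mul_left Fintype.card_pos hsum

/-- The fibre multiplicity of `A → A ⊗[k] Ω` over a point with finite residue field `K`. -/
theorem length_fibre [IsAlgClosed Ω] [Algebra.IsAlgebraic k Ω] {A K : Type u} [CommRing A]
    [Algebra k A] [Field K] [Algebra k K] [Module.Finite k K] (π : A →ₐ[k] K)
    (hπ : Function.Surjective π) (q : Ideal (A ⊗[k] Ω)) [q.IsPrime]
    (hq : q.comap (Algebra.TensorProduct.includeLeftRingHom : A →+* A ⊗[k] Ω) = RingHom.ker π) :
    (Module.length (Localization.AtPrime q) (Localization.AtPrime q ⧸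
        (RingHom.ker π).map ((algebraMap (A ⊗[k] Ω) (Localization.AtPrime q)).comp
          Algebra.TensorProduct.includeLeftRingHom))).toNat =
      Field.finInsepDegree k K := by
  obtain ⟨ψ, hψ, hker⟩ : ∃ ψ : A ⊗[k] Ω →+* Ω ⊗[k] K, Function.Surjective ψ ∧
      RingHom.ker ψ =
        (RingHom.ker π).map (Algebra.TensorProduct.includeLeftRingHom : A →+* A ⊗[k] Ω) := by
    let ψ₀ : A ⊗[k] Ω →ₐ[k] Ω ⊗[k] K :=
      (Algebra.TensorProduct.comm k K Ω).toAlgHom.comp (Algebra.TensorProduct.map π (AlgHom.id k Ω))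
    refine ⟨ψ₀.toRingHom, fun y => ?_, ?_⟩
    · induction y with
      | zero => exact ⟨0, map_zero _⟩
      | add x y hx hy =>
        obtain ⟨x', rfl⟩ := hx
        obtain ⟨y', rfl⟩ := hy
        exact ⟨x' + y', map_add _ _ _⟩
      | tmul w a =>
        obtain ⟨a, rfl⟩ := hπ a
        exact ⟨a ⊗ₜ[k] w, by simp [ψ₀]⟩
    · have h1 : RingHom.ker ψ₀.toRingHom =
          RingHom.ker (Algebra.TensorProduct.map π (AlgHom.id k Ω)) := by
        ext x
        simp [ψ₀, RingHom.mem_ker]
      rw [h1, Algebra.TensorProduct.rTensor_ker _ hπ]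
      rfl
  have hle : RingHom.ker ψ ≤ q := hker ▸ Ideal.map_le_iff_le_comap.mpr hq.ge
  haveI hP : (q.map ψ).IsPrime := Ideal.map_isPrime_of_surjective hψ hle
  have hQ : (q.map ψ).comap ψ = q := by
    rw [Ideal.comap_map_of_surjective _ hψ]
    exact sup_eq_left.mpr hle
  have hM : Submonoid.map ψ q.primeCompl = (q.map ψ).primeCompl := by
    ext y
    constructor
    · rintro ⟨x, hx, rfl⟩ h
      exact hx (hQ.le h)
    · intro hy
      obtain ⟨x, rfl⟩ := hψ y
      exact ⟨x, fun h => hy (Ideal.mem_map_of_mem ψ h), rfl⟩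
  haveI : IsLocalization (Submonoid.map ψ q.primeCompl) (Localization.AtPrime (q.map ψ)) := by
    rw [hM]; infer_instance
  have hle' : q.primeCompl ≤ (Submonoid.map ψ q.primeCompl).comap ψ := fun x hx => ⟨x, hx, rfl⟩
  let χ : Localization.AtPrime q →+* Localization.AtPrime (q.map ψ) :=
    IsLocalization.map (Localization.AtPrime (q.map ψ)) ψ hle'
  have hχs : Function.Surjective χ :=
    IsLocalization.map_surjective_of_surjective (M := q.primeCompl) _ _ hψ
  have hχk : RingHom.ker χ = (RingHom.ker ψ).map (algebraMap _ (Localization.AtPrime q)) :=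
    IsLocalization.ker_map (Localization.AtPrime (q.map ψ)) ψ rfl
  have h := MultBound.length_self_eq_quot_ker χ hχs
  rw [hχk, hker, Ideal.map_map] at h
  rw [← h]
  exact length_localization_tensor (q.map ψ)

end Groth.Agent.InsepLen
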